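import Groth.Agent.Lib.PerfModel2.Tower
import Groth.Agent.S0590
import Mathlib.AlgebraicGeometry.Morphisms.Immersion
import Mathlib.AlgebraicGeometry.Noetherian
import Mathlib.Algebra.Field.ZMod

/-!
# A compact perfect scheme is the perfection of a scheme of finite presentation over the prime field
-/

set_option autoImplicit false
set_option linter.style.haveILetI false
set_option backward.isDefEq.respectTransparency false

universe u

open CategoryTheory CategoryTheory.Limits AlgebraicGeometry Opposite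

namespace Groth.Agent.PerfModel2

/-- The spectrum of the prime field. -/
noncomputable abbrev Fp (p : ℕ) : Scheme.{u} := Spec (CommRingCat.of (ULift.{u} (ZMod p)))

theorem isCharP_Fp (p : ℕ) : FrobSch.IsCharP (Fp.{u} p) p := FrobSch.isCharP_Spec _ p

instance subsingleton_hom_Fp (p : ℕ) (Z : Scheme.{u}) : Subsingleton (Z ⟶ Fp.{u} p) := by
  refine ⟨fun a b => ext_to_Spec ?_⟩
  refine CommRingCat.hom_ext ?_
  refine RingHom.ext fun x => ?_
  exact DFunLike.congr_fun (Subsingleton.elim
    (((Scheme.ΓSpecIso _).inv ≫ a.appTop).hom.comp (ULift.ringEquiv.symm : ZMod p ≃+* _).toRingHom)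
    (((Scheme.ΓSpecIso _).inv ≫ b.appTop).hom.comp (ULift.ringEquiv.symm : ZMod p ≃+* _).toRingHom)) x.down

/-- The structure morphism of a scheme of characteristic `p`. -/
noncomputable def toFp (p : ℕ) (Z : Scheme.{u}) [FrobSch.IsCharP Z p] : Z ⟶ Fp.{u} p :=
  haveI : CharP Γ(Z, ⊤) (ringChar Γ(Z, ⊤)) := ringChar.charP _
  Z.toSpecΓ ≫ Spec.map (CommRingCat.ofHom
    ((ZMod.castHom ((ringChar.spec Γ(Z, ⊤) p).1 FrobSch.IsCharP.natCast_eq_zero) Γ(Z, ⊤)).comp
      (ULift.ringEquiv : ULift.{u} (ZMod p) ≃+* ZMod p).toRingHom))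

instance isNoetherianRing_Fp (p : ℕ) [Fact p.Prime] : IsNoetherianRing (ULift.{u} (ZMod p)) :=
  isNoetherianRing_of_ringEquiv (ZMod p) ULift.ringEquiv.symm

section

variable (p : ℕ) [Fact p.Prime]

/-- A morphism of schemes of characteristic `p` induces one between perfections. -/
noncomputable def towerMap {X Y : Scheme.{u}} [FrobSch.IsCharP X p] [FrobSch.IsCharP Y p] (f : X ⟶ Y) :
    tower X p ⟶ tower Y p where
  app _ := f
  naturality {i j} _ := fI_comp X p f (i.unop.down - j.unop.down)

/-- The morphism induced on perfections. -/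
noncomputable def Pmap {X Y : Scheme.{u}} [FrobSch.IsCharP X p] [FrobSch.IsCharP Y p] (f : X ⟶ Y) :
    P X p ⟶ P Y p :=
  limMap (towerMap p f)

theorem Pmap_π {X Y : Scheme.{u}} [FrobSch.IsCharP X p] [FrobSch.IsCharP Y p] (f : X ⟶ Y) (n : ℕ) :
    Pmap p f ≫ π Y p n = π X p n ≫ f :=
  limMap_π (towerMap p f) _

variable {I : Type u} [SmallCategory I] (D : I ⥤ Scheme.{u}) [∀ i, FrobSch.IsCharP (D.obj i) p]

/-- The system of perfections. -/
noncomputable def Pfun : I ⥤ Scheme.{u} where
  obj i := P (D.obj i) p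
  map f := Pmap p (D.map f)
  map_id i := π_injective _ p (isPerfect_P _ p) (by
    rw [Pmap_π, D.map_id, Category.comp_id, Category.id_comp])
  map_comp f g := π_injective _ p (isPerfect_P _ p) (by
    rw [Category.assoc, Pmap_π, Pmap_π, reassoc_of% Pmap_π p (D.map f) 0, D.map_comp])

instance isCharP_Pfun (i : I) : FrobSch.IsCharP ((Pfun p D).obj i) p := isCharP_P (D.obj i) p

variable [IsCofiltered I] (c : Cone D) (hc : IsLimit c) [FrobSch.IsCharP c.pt p]
  (hP : FrobSch.IsPerfect c.pt p)

/-- The cone of perfections over a perfect limit. -/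
noncomputable def Pcone : Cone (Pfun p D) where
  pt := c.pt
  π :=
    { app := fun i => (exists_lift (D.obj i) p hP (c.π.app i)).choose
      naturality := fun {i j} f => by
        refine π_injective (Y := c.pt) _ p hP ?_
        simp only [Functor.const_obj_map]
        erw [Category.id_comp, Category.assoc, Pmap_π, ← Category.assoc,
          (exists_lift (D.obj i) p hP (c.π.app i)).choose_spec,
          (exists_lift (D.obj j) p hP (c.π.app j)).choose_spec, c.w f] }

theorem Pcone_π (i : I) : (Pcone p D c hP).π.app i ≫ π (D.obj i) p 0 = c.π.app i :=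
  (exists_lift (D.obj i) p hP (c.π.app i)).choose_spec

theorem fI_Pcone (i : I) (n : ℕ) :
    fI c.pt p n ≫ (Pcone p D c hP).π.app i ≫ π (D.obj i) p n = c.π.app i := by
  rw [fI_comp c.pt p (show c.pt ⟶ D.obj i from (Pcone p D c hP).π.app i ≫ π (D.obj i) p n)]
  erw [Category.assoc]
  rw [π_fI, Pcone_π]

include hc in
/-- The perfect limit is the limit of the perfections. -/
theorem isLimit_Pcone : Nonempty (IsLimit (Pcone p D c hP)) := by
  haveI := fun n => isIso_fI c.pt p hP n
  have key : ∀ (s : Cone (Pfun p D)) (n : ℕ) (i : I),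
      ∃ v : s.pt ⟶ c.pt, ∀ i, v ≫ c.π.app i = s.π.app i ≫ π (D.obj i) p n := fun s n _ =>
    ⟨hc.lift { pt := s.pt
               π :=
                { app := fun i => s.π.app i ≫ π (D.obj i) p n
                  naturality := fun {i j} f => by
                    simp only [Functor.const_obj_map]
                    erw [Category.id_comp, ← s.w f, Category.assoc, Category.assoc, Pmap_π] } },
      fun i => hc.fac _ i⟩
  have key' : ∀ (s : Cone (Pfun p D)) (n : ℕ), ∃ v : s.pt ⟶ c.pt, ∀ i, v ≫ c.π.app i = s.π.app i ≫ π (D.obj i) p n :=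
    fun s n => key s n (IsCofiltered.nonempty (C := I)).some
  choose u hu using key'
  refine ⟨{ lift := fun s => u s 0, fac := fun s i => ?_, uniq := fun s m hm => ?_ }⟩
  · refine limit.hom_ext fun k => ?_
    show (u s 0 ≫ (Pcone p D c hP).π.app i) ≫ π (D.obj i) p k.unop.down
      = s.π.app i ≫ π (D.obj i) p k.unop.down
    have e : u s k.unop.down ≫ fI c.pt p k.unop.down = u s 0 := hc.hom_ext fun j => by
      rw [Category.assoc, fI_comp c.pt p (c.π.app j), ← Category.assoc, hu, hu, Category.assoc, π_fI]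
    rw [← e, Category.assoc, Category.assoc, fI_Pcone, hu]
  · refine hc.hom_ext fun i => ?_
    rw [hu, ← hm i, Category.assoc, Pcone_π]

end

open FrobSch in
theorem exists_model (p : ℕ) [Fact p.Prime] (X : Scheme.{u})
    [FrobSch.IsCharP X p] [CompactSpace X] [QuasiSeparatedSpace X] [FrobSch.IsPerfect X p]
    (hcpt : ∀ (J : Type u) [SmallCategory J] [IsCofiltered J] (F : J ⥤ Scheme.{u})
      [∀ j, FrobSch.IsCharP (F.obj j) p] (c : Cone F) [FrobSch.IsCharP c.pt p], IsLimit c →
      (∀ ⦃i j : J⦄ (a : i ⟶ j), IsAffineHom (F.map a)) →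
      (∀ j, FrobSch.IsPerfect (F.obj j) p ∧ CompactSpace (F.obj j) ∧ QuasiSeparatedSpace (F.obj j)) →
      FrobSch.IsPerfect c.pt p → CompactSpace c.pt → QuasiSeparatedSpace c.pt →
      (∀ g : c.pt ⟶ X, ∃ (j : J) (gj : F.obj j ⟶ X), c.π.app j ≫ gj = g) ∧
      (∀ (j : J) (g g' : F.obj j ⟶ X), c.π.app j ≫ g = c.π.app j ≫ g' →
        ∃ (k : J) (a : k ⟶ j), F.map a ≫ g = F.map a ≫ g')) :
    ∃ (X0 : Scheme.{u}) (s : X0 ⟶ Fp.{u} p) (_ : LocallyOfFinitePresentation s)
      (_ : CompactSpace X0) (_ : QuasiSeparatedSpace X0) (π : X ⟶ X0), FrobSch.IsPerfection π p := by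
  haveI := isCharP_Fp.{u} p
  obtain ⟨I, _, _, _, D, c, hc, haff, hD, ⟨e⟩⟩ := S0590.result X
  haveI : IsCofiltered Iᵒᵖ := inferInstance
  haveI : IsNoetherianRing (ULift.{u} ℤ) := isNoetherianRing_of_ringEquiv ℤ ULift.ringEquiv.symm
  let t : ∀ i, D.obj i ⟶ _ := fun i => Limits.IsTerminal.from specULiftZIsTerminal (D.obj i)
  let b : Fp.{u} p ⟶ _ := Limits.IsTerminal.from specULiftZIsTerminal (Fp.{u} p)
  haveI : ∀ i, LocallyOfFiniteType (t i) := fun i => (hD i).2
  haveI : Mono b := ⟨fun _ _ _ => Subsingleton.elim _ _⟩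
  -- the system over the prime field
  let E : Iᵒᵖ ⥤ Scheme.{u} :=
    { obj := fun i => pullback (t i) b
      map := fun f => pullback.map _ _ _ _ (D.map f) (𝟙 _) (𝟙 _)
        (specULiftZIsTerminal.hom_ext _ _) (by simp)
      map_id := fun i => (cancel_mono (pullback.fst _ _)).1 (by simp)
      map_comp := fun f g => (cancel_mono (pullback.fst _ _)).1 (by simp) }
  haveI : ∀ i, FrobSch.IsCharP (E.obj i) p := fun i => IsCharP.of_hom (pullback.snd (t i) b) p
  haveI : ∀ i, IsLocallyNoetherian (D.obj i) := fun i => LocallyOfFiniteType.isLocallyNoetherian (t i)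
  haveI : ∀ i, CompactSpace (D.obj i) := fun i => (hD i).1
  haveI : IsAffineHom b := inferInstance
  haveI : ∀ i, IsAffineHom (pullback.fst (t i) b) := fun i =>
    MorphismProperty.pullback_fst _ _ (inferInstance : IsAffineHom b)
  haveI hEc : ∀ i, CompactSpace (E.obj i) := fun i =>
    QuasiCompact.compactSpace_of_compactSpace (pullback.fst (t i) b)
  haveI hEl : ∀ i, IsLocallyNoetherian (E.obj i) := fun i =>
    LocallyOfFiniteType.isLocallyNoetherian (pullback.snd (t i) b)
  have hEaff : ∀ ⦃i j⦄ (f : i ⟶ j), IsAffineHom (E.map f) := by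
    intro i j f
    haveI := haff i j f
    haveI : IsAffineHom (E.map f ≫ pullback.fst (t j) b) := by
      rw [show E.map f ≫ pullback.fst (t j) b = pullback.fst (t i) b ≫ D.map f by simp [E]]
      exact MorphismProperty.comp_mem _ _ _ (inferInstance : IsAffineHom _) (haff i j f)
    exact MorphismProperty.of_postcomp (W := @IsAffineHom) (W' := @IsSeparated) (E.map f)
      (pullback.fst (t j) b) inferInstance inferInstance
  let cX : Cone E :=
    { pt := X
      π :=
        { app := fun i => pullback.lift (e.inv ≫ c.π.app i) (toFp p X) (specULiftZIsTerminal.hom_ext _ _)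
          naturality := fun {i j} f => (cancel_mono (pullback.fst (t j) b)).1 (by
            simp [E, c.w f]) } }
  have hcX : IsLimit cX :=
    { lift := fun s => hc.lift { pt := s.pt
                                 π :=
                                  { app := fun i => s.π.app i ≫ pullback.fst (t i) b
                                    naturality := fun {i j} f => by
                                      have := s.w f
                                      simp [E, ← this] } } ≫ e.hom
      fac := fun s i => (cancel_mono (pullback.fst (t i) b)).1 (by simp [cX])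
      uniq := fun s m hm => by
        rw [← Iso.comp_inv_eq]
        refine hc.hom_ext fun i => ?_
        rw [hc.fac]
        show _ = s.π.app i ≫ pullback.fst (t i) b
        rw [← hm i]
        simp [cX] }
  haveI : FrobSch.IsCharP cX.pt p := ‹FrobSch.IsCharP X p›
  have hXP : FrobSch.IsPerfect cX.pt p := ‹FrobSch.IsPerfect X p›
  obtain ⟨hL⟩ := isLimit_Pcone p E cX hcX hXP
  haveI : ∀ i, IsAffineHom (π (E.obj i) p 0) := fun i => inferInstance
  haveI : FrobSch.IsCharP (Pcone p E cX hXP).pt p := ‹FrobSch.IsCharP X p›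
  have hQaff : ∀ ⦃i j : Iᵒᵖ⦄ (f : i ⟶ j), IsAffineHom ((Pfun p E).map f) := by
    intro i j f
    haveI := hEaff f
    haveI : IsAffineHom ((Pfun p E).map f ≫ π (E.obj j) p 0) := by
      show IsAffineHom (Pmap p (E.map f) ≫ π (E.obj j) p 0)
      rw [Pmap_π]; infer_instance
    exact MorphismProperty.of_postcomp (W := @IsAffineHom) (W' := @IsSeparated) ((Pfun p E).map f)
      (π (E.obj j) p 0) inferInstance inferInstance
  have hQc : ∀ i, CompactSpace (P (E.obj i) p) := fun i =>
    QuasiCompact.compactSpace_of_compactSpace (π (E.obj i) p 0)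
  have hQs : ∀ i, QuasiSeparatedSpace (P (E.obj i) p) := fun i =>
    quasiSeparatedSpace_of_quasiSeparated (π (E.obj i) p 0)
  obtain ⟨i, r₀, hr⟩ := (hcpt Iᵒᵖ (Pfun p E) (Pcone p E cX hXP) hL hQaff
    (fun i => ⟨isPerfect_P (E.obj i) p, hQc i, hQs i⟩) hXP ‹CompactSpace X› ‹QuasiSeparatedSpace X›).1 (𝟙 X)
  let ι : X ⟶ P (E.obj i) p := (Pcone p E cX hXP).π.app i
  let r : P (E.obj i) p ⟶ X := r₀
  have hrι : ι ≫ r = 𝟙 X := hr
  -- the idempotent comes from a finite level
  let q : E.obj i ⟶ Fp.{u} p := pullback.snd (t i) b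
  haveI : LocallyOfFinitePresentation q := inferInstance
  haveI : ∀ j, CompactSpace ((tower (E.obj i) p).obj j) := fun j => hEc i
  haveI : ∀ j, QuasiSeparatedSpace ((tower (E.obj i) p).obj j) := fun j =>
    (inferInstance : QuasiSeparatedSpace (E.obj i))
  obtain ⟨k, e0, he0, -⟩ := Scheme.exists_π_app_comp_eq_of_locallyOfFinitePresentation
    (tower (E.obj i) p)
    { app := fun _ => q, naturality := fun _ _ _ => @Subsingleton.elim _ (subsingleton_hom_Fp p _) _ _ }
    q _ (limit.isLimit _) (r ≫ ι ≫ π (E.obj i) p 0)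
    (NatTrans.ext (funext fun _ => @Subsingleton.elim _ (subsingleton_hom_Fp p _) _ _))
  let n := k.unop.down
  have hn : π (E.obj i) p n ≫ e0 = r ≫ ι ≫ π (E.obj i) p 0 := he0
  have hn' : fI (P (E.obj i) p) p n ≫ r ≫ ι ≫ π (E.obj i) p 0 = π (E.obj i) p 0 ≫ e0 := by
    rw [← hn, ← Category.assoc, fI_comp, π_fI]
  -- the finite model
  let X0 : Scheme.{u} := equalizer e0 (fI (E.obj i) p n)
  let j : X0 ⟶ E.obj i := equalizer.ι e0 (fI (E.obj i) p n)
  haveI : IsImmersion j := inferInstance
  haveI : IsNoetherian (E.obj i) := { }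
  haveI : QuasiCompact j := inferInstance
  haveI : LocallyOfFinitePresentation (j ≫ q) := inferInstance
  have hc0 : CompactSpace X0 := QuasiCompact.compactSpace_of_compactSpace j
  have hs0 : QuasiSeparatedSpace X0 := quasiSeparatedSpace_of_quasiSeparated j
  have hπ : (ι ≫ π (E.obj i) p 0) ≫ e0 = (ι ≫ π (E.obj i) p 0) ≫ fI (E.obj i) p n := by
    rw [Category.assoc, ← hn', ← Category.assoc, ← fI_comp X p ι, Category.assoc,
      reassoc_of% hrι, ← fI_comp]
  refine ⟨X0, j ≫ q, inferInstance, hc0, hs0, equalizer.lift _ hπ, ‹FrobSch.IsPerfect X p›,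
    fun Y _ hY => ⟨fun g g' hg => ?_, fun h => ?_⟩⟩
  · have h1 : g ≫ ι ≫ π (E.obj i) p 0 = g' ≫ ι ≫ π (E.obj i) p 0 := by
      have := congr($hg ≫ j)
      simpa [j] using this
    have h2 : g ≫ ι = g' ≫ ι := π_injective (E.obj i) p hY (by simpa using h1)
    have := congr($h2 ≫ r)
    simpa [hrι] using this
  · obtain ⟨g, hg⟩ := exists_lift (E.obj i) p hY (h ≫ j)
    haveI := isIso_fI Y p hY n
    have hfix : g ≫ r ≫ ι = g := by
      refine π_injective (E.obj i) p hY ?_
      rw [← cancel_epi (fI Y p n)]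
      simp only [Category.assoc]
      rw [reassoc_of% fI_comp Y p g n, hn', hg, fI_comp Y p (h ≫ j), reassoc_of% hg, Category.assoc,
        equalizer.condition]
    refine ⟨g ≫ r, equalizer.hom_ext ?_⟩
    simp only [Category.assoc, equalizer.lift_ι]
    rw [← reassoc_of% hfix] at hg
    simpa using hg

end Groth.Agent.PerfModel2
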