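import Groth.Prelude.Def_Frob
import Groth.Agent.Lib.LimH13.Exists
import Groth.Agent.Lib.FrobUH12.Basic
import Mathlib.AlgebraicGeometry.AffineTransitionLimit

/-!
# The perfection of a scheme as the limit of its Frobenius tower
-/

set_option autoImplicit false
set_option linter.style.haveILetI false
set_option backward.isDefEq.respectTransparency false

universe u

open CategoryTheory CategoryTheory.Limits AlgebraicGeometry Opposite

namespace Groth.Agent.PerfModel2

section

variable (X : Scheme.{u}) (p : ℕ) [Fact p.Prime] [FrobSch.IsCharP X p]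

/-- Iterates of the absolute Frobenius. -/
noncomputable def fI : ℕ → (X ⟶ X)
  | 0 => 𝟙 X
  | n + 1 => FrobSch.frob X p ≫ fI n

theorem fI_add (m n : ℕ) : fI X p (m + n) = fI X p m ≫ fI X p n := by
  induction m with
  | zero => simp [fI]
  | succ m ih => rw [Nat.succ_add]; simp [fI, ih]

theorem fI_one : fI X p 1 = FrobSch.frob X p := by simp [fI]

theorem fI_comp {Y : Scheme.{u}} [FrobSch.IsCharP Y p] (f : X ⟶ Y) (n : ℕ) :
    fI X p n ≫ f = f ≫ fI Y p n := by
  induction n with
  | zero => simp [fI]
  | succ n ih => simp only [fI, Category.assoc, ih]; rw [FrobSch.frob_comp_assoc]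

instance isAffineHom_fI (n : ℕ) : IsAffineHom (fI X p n) := by
  induction n with
  | zero => simp only [fI]; infer_instance
  | succ n ih =>
    haveI := FrobUH12.isIntegralHom_frob X p
    simp only [fI]; infer_instance

theorem isIso_fI (h : FrobSch.IsPerfect X p) (n : ℕ) : IsIso (fI X p n) := by
  induction n with
  | zero => simp only [fI]; infer_instance
  | succ n ih => haveI : IsIso (FrobSch.frob X p) := h; simp only [fI]; infer_instance

/-- The tower of absolute Frobenius morphisms. -/
noncomputable def tower : (ULift.{u} ℕ)ᵒᵖ ⥤ Scheme.{u} where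
  obj _ := X
  map {i j} _ := fI X p (i.unop.down - j.unop.down)
  map_id i := by simp [fI]
  map_comp {i j k} f g := by
    rw [← fI_add]
    have hf : j.unop.down ≤ i.unop.down := ULift.down_le.mpr (leOfHom f.unop)
    have hg : k.unop.down ≤ j.unop.down := ULift.down_le.mpr (leOfHom g.unop)
    congr 1
    omega

instance isAffineHom_tower_map {i j : (ULift.{u} ℕ)ᵒᵖ} (f : i ⟶ j) :
    IsAffineHom ((tower X p).map f) := by
  dsimp [tower]; infer_instance

instance hasLimit_tower : HasLimit (tower X p) :=
  haveI : ∀ (i j : (ULift.{u} ℕ)ᵒᵖ) (f : i ⟶ j), IsAffineHom ((tower X p).map f) :=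
    fun i j f => isAffineHom_tower_map X p f
  LimH13.hasLimit_of_isAffineHom _

/-- The perfection of `X`. -/
noncomputable def P : Scheme.{u} := limit (tower X p)

/-- The projection to level `n` of the tower. -/
noncomputable def π (n : ℕ) : P X p ⟶ X := limit.π (tower X p) (op ⟨n⟩)

instance isCharP_P : FrobSch.IsCharP (P X p) p := FrobSch.IsCharP.of_hom (π X p 0) p

instance isAffineHom_π (n : ℕ) : IsAffineHom (π X p n) :=
  isAffineHom_π_app (tower X p) _ (limit.isLimit _) _

theorem π_w {m n : ℕ} (h : m ≤ n) : π X p n ≫ fI X p (n - m) = π X p m :=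
  limit.w (tower X p) (homOfLE (show (⟨m⟩ : ULift.{u} ℕ) ≤ ⟨n⟩ from h)).op

theorem π_fI (n : ℕ) : π X p n ≫ fI X p n = π X p 0 := by
  simpa using π_w X p (Nat.zero_le n)

theorem frob_π (n : ℕ) : FrobSch.frob (P X p) p ≫ π X p (n + 1) = π X p n := by
  rw [FrobSch.frob_comp, ← fI_one]
  simpa using π_w X p (Nat.le_succ n)

/-- The cone shifting the tower by one step. -/
noncomputable def shiftCone : Cone (tower X p) where
  pt := P X p
  π :=
    { app := fun i => π X p (i.unop.down + 1)
      naturality := fun {i j} f => by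
        have hf : j.unop.down ≤ i.unop.down := ULift.down_le.mpr (leOfHom f.unop)
        have h := π_w X p (Nat.succ_le_succ hf)
        rw [Nat.succ_sub_succ] at h
        simp only [Functor.const_obj_map]
        erw [Category.id_comp]
        exact h.symm }

/-- The inverse of the Frobenius of the perfection. -/
noncomputable def shift : P X p ⟶ P X p := limit.lift (tower X p) (shiftCone X p)

theorem shift_π (n : ℕ) : shift X p ≫ π X p n = π X p (n + 1) :=
  limit.lift_π (shiftCone X p) (op ⟨n⟩)

theorem isPerfect_P : FrobSch.IsPerfect (P X p) p := by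
  refine ⟨shift X p, ?_, ?_⟩
  · refine limit.hom_ext fun i => ?_
    show (FrobSch.frob (P X p) p ≫ shift X p) ≫ π X p i.unop.down = 𝟙 _ ≫ π X p i.unop.down
    rw [Category.assoc, shift_π, frob_π, Category.id_comp]
  · refine limit.hom_ext fun i => ?_
    show (shift X p ≫ FrobSch.frob (P X p) p) ≫ π X p i.unop.down = 𝟙 _ ≫ π X p i.unop.down
    rw [Category.assoc, FrobSch.frob_comp, ← Category.assoc, shift_π, ← fI_one, Category.id_comp]
    simpa using π_w X p (Nat.le_succ i.unop.down)

theorem π_injective {Y : Scheme.{u}} [FrobSch.IsCharP Y p] (hY : FrobSch.IsPerfect Y p)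
    {g g' : Y ⟶ P X p} (h : g ≫ π X p 0 = g' ≫ π X p 0) : g = g' := by
  refine limit.hom_ext fun i => ?_
  show g ≫ π X p i.unop.down = g' ≫ π X p i.unop.down
  haveI := isIso_fI Y p hY i.unop.down
  rw [← cancel_epi (fI Y p i.unop.down), fI_comp, fI_comp, Category.assoc, Category.assoc, π_fI, h]

theorem exists_lift {Y : Scheme.{u}} [FrobSch.IsCharP Y p] (hY : FrobSch.IsPerfect Y p)
    (g : Y ⟶ X) : ∃ h : Y ⟶ P X p, h ≫ π X p 0 = g := by
  haveI := fun n => isIso_fI Y p hY n
  let s : Cone (tower X p) :=
    { pt := Y
      π :=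
        { app := fun i => inv (fI Y p i.unop.down) ≫ g
          naturality := fun {i j} f => by
            have hf : j.unop.down ≤ i.unop.down := ULift.down_le.mpr (leOfHom f.unop)
            simp only [Functor.const_obj_map]
            erw [Category.id_comp]
            show inv (fI Y p j.unop.down) ≫ g
              = (inv (fI Y p i.unop.down) ≫ g) ≫ fI X p (i.unop.down - j.unop.down)
            have hi : inv (fI Y p i.unop.down) ≫ fI Y p (i.unop.down - j.unop.down)
                = inv (fI Y p j.unop.down) := by
              rw [IsIso.inv_comp_eq, IsIso.eq_comp_inv, ← fI_add, Nat.sub_add_cancel hf]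
            rw [Category.assoc, ← fI_comp, ← Category.assoc, hi] } }
  exact ⟨limit.lift _ s, (limit.lift_π s (op ⟨0⟩)).trans (by simp [s, fI])⟩

theorem isPerfection_π : FrobSch.IsPerfection (π X p 0) p :=
  ⟨isPerfect_P X p, fun _ _ hY =>
    ⟨fun _ _ h => π_injective X p hY h, fun g => exists_lift X p hY g⟩⟩

end

end Groth.Agent.PerfModel2
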